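import Cfsg.Agent.Lib.HeEnd85.Sylow

/-!
# Held type: if `C(x, v)` is not in `G0`, its part in `G0` is `cP` times a nilpotent subgroup

Owner: helper85. Among the left cosets of `K0 = cD ⊓ G0` different from `K0`, some `t K0` contains
at least as many elements of type `Tz` as `K0`; then `D0 = K0 ∩ K0^t` is the four group times
an abelian group of odd order inverted by `t`, and `K0 = cP * D0`.
-/

set_option autoImplicit false
set_option linter.unusedSectionVars false

namespace Cfsg.Agent.Lib.HeEnd85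

variable {G : Type*} [Group G] [Finite G] {G0 : Subgroup G} {z x v : G}

namespace Setting

variable (S : Setting G0 z x v)
include S

theorem cent_inter (H : Subgroup G) (hP : cP z x v ≤ H) (hH : H ≤ cD x v) :
    Nat.card ↥(Subgroup.centralizer ({z} : Set G) ⊓ H) = 256 := by
  rw [show Subgroup.centralizer ({z} : Set G) ⊓ H = cP z x v from
    le_antisymm (fun g hg => ⟨hg.1, hH hg.2⟩) (fun g hg => ⟨hg.1, hP hg⟩), S.cardP]

theorem card_tz_cD :
    Nat.card {s : G // s ∈ cD x v ∧ Tz z x s} * 256 = Nat.card (cD x v) := by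
  rw [← card_orbit (cD x v) z, S.cent_inter _ inf_le_right le_rfl]
  congr 1
  refine Nat.card_congr (Equiv.subtypeEquivRight fun s => ⟨fun h => ?_, ?_⟩)
  · exact S.tz_conj h.1 h.2
  · rintro ⟨k, hk, rfl⟩
    exact ⟨mul_mem (mul_mem hk S.z_mem_cP.2) (inv_mem hk),
      (tz_conj_iff (mem_cD.1 hk).1).2 S.tz_z⟩

theorem cP_le_K : cP z x v ≤ cD x v ⊓ G0 := le_inf inf_le_right S.cP_le_G0

theorem card_tz_K :
    Nat.card {s : G // s ∈ cD x v ⊓ G0 ∧ Tz z x s} * 256 = Nat.card ↥(cD x v ⊓ G0) := by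
  rw [← card_orbit (cD x v ⊓ G0) z, S.cent_inter _ S.cP_le_K inf_le_left]
  congr 1
  refine Nat.card_congr (Equiv.subtypeEquivRight fun s => ⟨fun h => ?_, ?_⟩)
  · exact S.tz_conj_G0 h.1 h.2
  · rintro ⟨k, hk, rfl⟩
    exact ⟨mul_mem (mul_mem hk (S.cP_le_K S.z_mem_cP)) (inv_mem hk),
      (tz_conj_iff (mem_cD.1 hk.1).1).2 S.tz_z⟩

theorem odd_tz_K : Odd (Nat.card {s : G // s ∈ cD x v ⊓ G0 ∧ Tz z x s}) := by
  haveI : Fact (Nat.Prime 2) := ⟨Nat.prime_two⟩
  by_contra h
  obtain ⟨r, hr⟩ := Nat.not_odd_iff_even.1 h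
  obtain ⟨R, hR⟩ := Sylow.exists_subgroup_card_pow_prime 2 (G := ↥(cD x v ⊓ G0)) (n := 9)
    ⟨r, by rw [← S.card_tz_K, hr]; ring⟩
  have := S.card_le ((IsPGroup.of_card hR).map (cD x v ⊓ G0).subtype)
    ((Subgroup.map_subtype_le _).trans inf_le_left)
  rw [Subgroup.card_map_of_injective (Subgroup.subtype_injective _), hR] at this
  omega

/-- Outside `G0` there is an element of type `Tz` whose left coset of `G0` holds at least as many
of them as `G0`. -/
theorem exists_big (hne : ¬ cD x v ≤ G0) :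
    ∃ t ∈ cD x v, t ∉ G0 ∧ Tz z x t ∧ Nat.card {s : G // s ∈ cD x v ⊓ G0 ∧ Tz z x s} ≤
      Nat.card {s : G // s ∈ cD x v ∧ Tz z x s ∧ t⁻¹ * s ∈ G0} := by
  classical
  set q := Nat.card {s : G // s ∈ cD x v ⊓ G0 ∧ Tz z x s} with hq
  set K := G0.subgroupOf (cD x v) with hK
  let T := {s : G // s ∈ cD x v ∧ Tz z x s}
  let f : T → (cD x v) ⧸ K := fun s => QuotientGroup.mk ⟨s.1, s.2.1⟩
  haveI : Fintype ((cD x v) ⧸ K) := Fintype.ofFinite _
  have hsum : Nat.card T = ∑ c, Nat.card {s : T // f s = c} := by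
    rw [← Nat.card_sigma]
    exact Nat.card_congr (Equiv.sigmaFiberEquiv f).symm
  have hfib : ∀ a : cD x v, ∀ s : T, f s = QuotientGroup.mk a ↔ (a : G)⁻¹ * s.1 ∈ G0 := by
    intro a s
    rw [eq_comm]
    exact QuotientGroup.eq.trans Subgroup.mem_subgroupOf
  have hbase : Nat.card {s : T // f s = QuotientGroup.mk 1} = q := by
    rw [hq]
    refine Nat.card_congr ⟨fun s => ⟨s.1.1, ⟨s.1.2.1, ?_⟩, s.1.2.2⟩,
      fun s => ⟨⟨s.1, s.2.1.1, s.2.2⟩, (hfib 1 _).2 (by simpa using s.2.1.2)⟩,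
      fun s => rfl, fun s => rfl⟩
    simpa using (hfib 1 s.1).1 s.2
  have hqpos : 0 < q := by
    haveI : Nonempty {s : G // s ∈ cD x v ⊓ G0 ∧ Tz z x s} :=
      ⟨⟨z, S.cP_le_K S.z_mem_cP, S.tz_z⟩⟩
    exact Nat.card_pos
  have hT : Nat.card T = Fintype.card ((cD x v) ⧸ K) * q := by
    refine Nat.eq_of_mul_eq_mul_right (show 0 < 256 by norm_num) ?_
    rw [S.card_tz_cD, mul_assoc, hq, S.card_tz_K, Fintype.card_eq_nat_card,
      Subgroup.card_eq_card_quotient_mul_card_subgroup K]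
    congr 1
    rw [hK, ← Subgroup.inf_subgroupOf_left]
    exact Nat.card_congr (Subgroup.subgroupOfEquivOfLe inf_le_left).toEquiv
  by_cases hc : ∃ c, c ≠ QuotientGroup.mk 1 ∧ q ≤ Nat.card {s : T // f s = c}
  · obtain ⟨c, hc1, hc2⟩ := hc
    obtain ⟨⟨⟨t, htD, htT⟩, htc⟩⟩ : Nonempty {s : T // f s = c} := by
      by_contra h
      rw [not_nonempty_iff] at h
      rw [Nat.card_of_isEmpty] at hc2
      omega
    refine ⟨t, htD, fun h => hc1 ?_, htT, hc2.trans ?_⟩
    · rw [← htc]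
      exact (hfib 1 _).2 (by simpa using h)
    · refine Nat.card_le_card_of_injective (fun s => ⟨s.1.1, s.1.2.1, s.1.2.2, ?_⟩) ?_
      · exact (hfib ⟨t, htD⟩ s.1).1 (s.2.trans htc.symm)
      · intro a b h
        exact Subtype.ext (Subtype.ext (congrArg (fun u => u.1) h))
  · exfalso
    push_neg at hc
    obtain ⟨g, hgD, hg0⟩ := SetLike.not_le_iff_exists.1 hne
    have hlt : ∑ c, Nat.card {s : T // f s = c} < ∑ _c : (cD x v) ⧸ K, q := by
      refine Finset.sum_lt_sum (fun c _ => ?_) ⟨QuotientGroup.mk ⟨g, hgD⟩, Finset.mem_univ _, ?_⟩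
      · by_cases h : c = QuotientGroup.mk 1
        · rw [h, hbase]
        · exact (hc c h).le
      · refine hc _ fun h => hg0 ?_
        have := Subgroup.mem_subgroupOf.1 (QuotientGroup.eq.1 h.symm)
        simpa using this
    rw [← hsum, hT, Finset.sum_const, Finset.card_univ, smul_eq_mul] at hlt
    exact lt_irrefl _ hlt

/-- The structure of `K0` when `cD` is not in `G0`: a factorisation by two nilpotent subgroups. -/
theorem exists_factor (hne : ¬ cD x v ≤ G0) :
    ∃ B : Subgroup G, B ≤ cD x v ⊓ G0 ∧ Group.IsNilpotent B ∧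
      ∀ g ∈ cD x v ⊓ G0, ∃ a ∈ cP z x v, ∃ b ∈ B, g = a * b := by
  classical
  haveI : Fact (Nat.Prime 2) := ⟨Nat.prime_two⟩
  obtain ⟨t, htD, ht0, htT, hbig⟩ := S.exists_big hne
  set q := Nat.card {s : G // s ∈ cD x v ⊓ G0 ∧ Tz z x s} with hq
  set K := cD x v ⊓ G0 with hK
  have htt : t * t = 1 := Involutions.Basic.invol_mul_self (S.orderOf_tz htT)
  have hti : t⁻¹ = t := inv_eq_of_mul_eq_one_right htt
  set B := K ⊓ K.comap (MulAut.conj t).toMonoidHom with hB
  have hBmem : ∀ k, k ∈ B ↔ k ∈ K ∧ t * k * t⁻¹ ∈ K := fun k => Iff.rfl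
  have hVK : cV x v ≤ K := S.cV_le_cP.trans S.cP_le_K
  have hVB : cV x v ≤ B := fun w hw =>
    (hBmem w).2 ⟨hVK hw, by rw [conj_fix (S.commute_cV htD hw)]; exact hVK hw⟩
  -- no involution modulo the four group
  have hinv : ∀ k ∈ B, k * k ∈ cV x v → k ∈ cV x v := by
    intro k hk hk2
    by_contra hk1
    obtain ⟨hkK, hkt⟩ := (hBmem k).1 hk
    obtain ⟨w, hw, hr, -⟩ := S.coset_cD hkK.1 hk1 hk2
    have hrK : k * w ∈ K := mul_mem hkK (hVK hw)
    have hrt : t * (k * w) * t⁻¹ ∈ G0 := by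
      rw [conj_mul, conj_fix (S.commute_cV htD hw)]
      exact mul_mem hkt.2 (hVK hw).2
    exact ht0 (S.mem_of_conj_mem hrK.2 hr.1 hrt)
  have hcardV : Nat.card ((cV x v).subgroupOf B) = 4 :=
    (Nat.card_congr (Subgroup.subgroupOfEquivOfLe hVB).toEquiv).trans S.card_cV
  -- two-subgroups lie in the four group
  have htwo : ∀ k ∈ B, ∀ n : ℕ, k ^ (2 ^ n) = 1 → k ∈ cV x v := by
    intro k hk n
    induction n generalizing k with
    | zero => intro h; rw [pow_zero, pow_one] at h; rw [h]; exact one_mem _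
    | succ n ih =>
      intro h
      refine hinv k hk (ih (k * k) (mul_mem hk hk) ?_)
      rw [← pow_two, ← pow_mul, show 2 * 2 ^ n = 2 ^ (n + 1) by rw [pow_succ]; ring]
      exact h
  obtain ⟨o, ho⟩ : ∃ o, Nat.card B = 4 * o := by
    rw [← hcardV]
    exact Subgroup.card_subgroup_dvd_card _
  have hodd : Odd o := by
    by_contra h
    obtain ⟨r, hr⟩ := Nat.not_odd_iff_even.1 h
    obtain ⟨R, hR⟩ := Sylow.exists_subgroup_card_pow_prime 2 (G := ↥B) (n := 3)
      ⟨r, by rw [ho, hr]; ring⟩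
    have hle : R ≤ (cV x v).subgroupOf B := by
      intro r' hr'
      refine Subgroup.mem_subgroupOf.2 (htwo r' r'.2 3 ?_)
      have := pow_card_eq_one' (G := ↥R) (x := ⟨r', hr'⟩)
      rw [hR] at this
      exact congrArg (fun a : ↥R => ((a : ↥B) : G)) this
    have := Subgroup.card_le_of_le hle
    rw [hR, hcardV] at this
    omega
  have hdvd : o ∣ q := by
    have h1 : Nat.card B ∣ Nat.card K := Subgroup.card_dvd_of_le inf_le_left
    rw [ho, ← S.card_tz_K, ← hq, show q * 256 = 4 * (2 ^ 6 * q) by ring] at h1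
    have h2 := Nat.dvd_of_mul_dvd_mul_left (by norm_num) h1
    exact (Nat.Coprime.pow_right 6 (Nat.coprime_two_right.2 hodd)).dvd_of_dvd_mul_left h2
  -- the elements `t * s` fill `B` modulo the four group
  set VB := (cV x v).subgroupOf B with hVBdef
  have hquot : Nat.card (B ⧸ VB) = o := by
    have := Subgroup.card_eq_card_quotient_mul_card_subgroup VB
    rw [ho, hcardV] at this
    omega
  let J := {s : G // s ∈ cD x v ∧ Tz z x s ∧ t⁻¹ * s ∈ G0}
  have hJB : ∀ s : J, t * s.1 ∈ B := by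
    intro s
    have hs0 : t * s.1 ∈ G0 := by simpa only [hti] using s.2.2.2
    have hDs : t * (t * s.1) * t⁻¹ ∈ cD x v := mul_mem (mul_mem htD (mul_mem htD s.2.1)) (inv_mem htD)
    have e : t * (t * s.1) * t⁻¹ = (t * s.1)⁻¹ := by
      calc t * (t * s.1) * t⁻¹ = (t * t) * (s.1 * t⁻¹) := by simp only [mul_assoc]
        _ = s.1 * t⁻¹ := by rw [htt, one_mul]
        _ = s.1⁻¹ * t⁻¹ := by rw [Involutions.Basic.invol_inv (S.orderOf_tz s.2.2.1)]
        _ = (t * s.1)⁻¹ := (mul_inv_rev _ _).symm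
    have hG : t * (t * s.1) * t⁻¹ ∈ G0 := e.symm ▸ inv_mem hs0
    exact (hBmem _).2 ⟨⟨mul_mem htD s.2.1, hs0⟩, ⟨hDs, hG⟩⟩
  let φ : J → B ⧸ VB := fun s => QuotientGroup.mk ⟨t * s.1, hJB s⟩
  have hφ : Function.Injective φ := by
    intro a b h
    have h1 := Subgroup.mem_subgroupOf.1 (QuotientGroup.eq.1 h)
    push_cast at h1
    rw [mul_inv_rev, show a.1⁻¹ * t⁻¹ * (t * b.1) = a.1⁻¹ * b.1 by group] at h1
    have haV : a.1 ∉ cV x v := fun hh => S.not_isConj_of_mem_cV hh a.2.2.1.1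
    obtain ⟨w, -, -, hu⟩ := S.coset_cD a.2.1 haV
      (by rw [Involutions.Basic.invol_mul_self (S.orderOf_tz a.2.2.1)]; exact one_mem _)
    have e1 := hu 1 (one_mem _) (by rw [mul_one]; exact a.2.2.1)
    have e2 := hu _ h1 (by rw [mul_inv_cancel_left]; exact b.2.2.1)
    exact Subtype.ext (inv_mul_eq_one.1 (e2.trans e1.symm))
  have hoq : o = q := le_antisymm (Nat.le_of_dvd (by have := S.odd_tz_K; exact this.pos) hdvd)
    (hbig.trans (hquot ▸ Nat.card_le_card_of_injective φ hφ))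
  have hsurj : Function.Surjective φ := by
    haveI : Fintype J := Fintype.ofFinite _
    haveI : Fintype (B ⧸ VB) := Fintype.ofFinite _
    refine ((Fintype.bijective_iff_injective_and_card φ).2 ⟨hφ, ?_⟩).2
    rw [← Nat.card_eq_fintype_card, ← Nat.card_eq_fintype_card, hquot]
    exact le_antisymm (hquot ▸ Nat.card_le_card_of_injective φ hφ) (hoq ▸ hbig)
  -- `t` inverts `B` modulo the four group
  have hinvert : ∀ k : B, t * (k : G) * t⁻¹ * k ∈ cV x v := by
    intro k
    obtain ⟨s, hs⟩ := hsurj (QuotientGroup.mk k)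
    have h1 := Subgroup.mem_subgroupOf.1 (QuotientGroup.eq.1 hs)
    push_cast at h1
    set w := (t * s.1)⁻¹ * (k : G) with hw
    have hk : (k : G) = t * s.1 * w := by rw [hw]; group
    have hwt : Commute t w := S.commute_cV htD h1
    have hwb : Commute (t * s.1) w := S.commute_cV (mul_mem htD s.2.1) h1
    have hss := Involutions.Basic.invol_mul_self (S.orderOf_tz s.2.2.1)
    have : t * (k : G) * t⁻¹ * k = w * w := by
      rw [hk]
      refine Eq.trans (congrArg (fun u => t * (t * s.1 * w) * u * (t * s.1 * w)) hti) ?_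
      calc t * (t * s.1 * w) * t * (t * s.1 * w)
          = (t * t) * (s.1 * (w * (t * t)) * s.1 * w) := by simp only [mul_assoc]
        _ = s.1 * w * s.1 * w := by rw [htt, one_mul, mul_one]
        _ = s.1 * (w * s.1) * w := by simp only [mul_assoc]
        _ = s.1 * (s.1 * w) * w := by rw [(S.commute_cV s.2.1 h1).eq]
        _ = (s.1 * s.1) * (w * w) := by simp only [mul_assoc]
        _ = w * w := by rw [hss, one_mul]
    rw [this]
    exact mul_mem h1 h1
  -- `B` is nilpotent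
  have hnil : Group.IsNilpotent B := by
    have hc : ∀ w : G, w ∈ cV x v → ∀ b : B, (b : G) * w = w * b := fun w hw b =>
      (S.commute_cV ((hBmem b).1 b.2).1.1 hw).eq
    have hcomm : ∀ a b : B ⧸ Subgroup.center B, a * b = b * a := by
      have hinv' : ∀ a : B, ∀ h : t * (a : G) * t⁻¹ ∈ B,
          (QuotientGroup.mk ⟨t * (a : G) * t⁻¹, h⟩ : B ⧸ Subgroup.center B) =
            (QuotientGroup.mk a)⁻¹ := by
        intro a h
        rw [eq_inv_iff_mul_eq_one, ← QuotientGroup.mk_mul, QuotientGroup.eq_one_iff,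
          Subgroup.mem_center_iff]
        intro b
        exact Subtype.ext (hc _ (hinvert a) b)
      have hτ : ∀ a : B, t * (a : G) * t⁻¹ ∈ B := by
        intro a
        obtain ⟨h1, h2⟩ := (hBmem a).1 a.2
        refine (hBmem _).2 ⟨h2, ?_⟩
        rw [hti, show t * (t * (a : G) * t) * t = (t * t) * a * (t * t) by simp only [mul_assoc],
          htt, one_mul, mul_one]
        exact h1
      intro a b
      refine QuotientGroup.induction_on a fun a => QuotientGroup.induction_on b fun b => ?_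
      have e : (⟨t * ((a * b : B) : G) * t⁻¹, hτ _⟩ : B) =
          ⟨t * (a : G) * t⁻¹, hτ a⟩ * ⟨t * (b : G) * t⁻¹, hτ b⟩ := Subtype.ext (by
        push_cast; group)
      have := hinv' (a * b) (hτ _)
      rw [e, QuotientGroup.mk_mul, hinv', hinv', QuotientGroup.mk_mul] at this
      have := congrArg (fun u => u⁻¹) this
      simp only [mul_inv_rev, inv_inv] at this
      exact this.symm
    letI : CommGroup (B ⧸ Subgroup.center B) :=
      { (inferInstance : Group (B ⧸ Subgroup.center B)) with mul_comm := hcomm }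
    exact Group.of_quotient_center_nilpotent CommGroup.isNilpotent
  refine ⟨B, inf_le_left, hnil, ?_⟩
  -- the factorisation
  set PK := (cP z x v).subgroupOf K with hPK
  have hPKq : Nat.card (K ⧸ PK) = q := by
    have := Subgroup.card_eq_card_quotient_mul_card_subgroup PK
    rw [← S.card_tz_K, ← hq, hPK,
      Nat.card_congr (Subgroup.subgroupOfEquivOfLe S.cP_le_K).toEquiv, S.cardP] at this
    rw [hPK]
    omega
  have hVP : ∀ a b : B, QuotientGroup.leftRel VB a b →
      (QuotientGroup.mk ⟨(a : G), ((hBmem a).1 a.2).1⟩ : K ⧸ PK) =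
        QuotientGroup.mk ⟨(b : G), ((hBmem b).1 b.2).1⟩ := by
    intro a b h
    refine QuotientGroup.eq.2 (Subgroup.mem_subgroupOf.2 ?_)
    have := S.cV_le_cP (Subgroup.mem_subgroupOf.1 (QuotientGroup.leftRel_apply.1 h))
    exact this
  let ψ : B ⧸ VB → K ⧸ PK :=
    Quotient.lift (fun a => QuotientGroup.mk ⟨(a : G), ((hBmem a).1 a.2).1⟩) hVP
  have hψ : Function.Injective ψ := by
    intro a b
    refine QuotientGroup.induction_on a fun a => QuotientGroup.induction_on b fun b h => ?_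
    have h1 := Subgroup.mem_subgroupOf.1 (QuotientGroup.eq.1 h)
    refine QuotientGroup.eq.2 (Subgroup.mem_subgroupOf.2 (htwo _ (a⁻¹ * b).2 8 ?_))
    have := pow_card_eq_one' (G := ↥(cP z x v)) (x := ⟨_, h1⟩)
    rw [S.cardP] at this
    simpa using congrArg Subtype.val this
  have hψs : Function.Surjective ψ := by
    haveI : Fintype (B ⧸ VB) := Fintype.ofFinite _
    haveI : Fintype (K ⧸ PK) := Fintype.ofFinite _
    refine ((Fintype.bijective_iff_injective_and_card ψ).2 ⟨hψ, ?_⟩).2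
    rw [← Nat.card_eq_fintype_card, ← Nat.card_eq_fintype_card, hquot, hPKq, hoq]
  intro g hg
  obtain ⟨b, hb⟩ := hψs (QuotientGroup.mk ⟨g⁻¹, inv_mem hg⟩)
  revert hb
  refine QuotientGroup.induction_on b fun b hb => ?_
  have h1 := Subgroup.mem_subgroupOf.1 (QuotientGroup.eq.1 hb)
  refine ⟨((b : G)⁻¹ * g⁻¹)⁻¹, inv_mem h1, (b : G)⁻¹, inv_mem b.2, ?_⟩
  group

end Setting

end Cfsg.Agent.Lib.HeEnd85
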