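import Cfsg.Agent.Lib.HeEnd85.Solve

/-!
# Held type: a subgroup containing `C(z)` and controlling the fusion is the whole group

Owner: helper85.
-/

set_option autoImplicit false
set_option linter.unusedSectionVars false

namespace Cfsg.Agent.Lib.HeEnd85

variable {G : Type*} [Group G] [Finite G] {G0 : Subgroup G} {z x v : G}

namespace Setting

variable (S : Setting G0 z x v)
include S

theorem x_mem_G0 : x ∈ G0 := S.cent (Subgroup.mem_centralizer_singleton_iff.2 S.cxz.eq)

theorem zv_mem_G0 : z * v ∈ G0 :=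
  S.cent (Subgroup.mem_centralizer_singleton_iff.2 ((Commute.refl z).mul_left S.cvz).eq)

/-- `C(x)` lies in `G0`. -/
theorem cX_le_G0 : Subgroup.centralizer ({x} : Set G) ≤ G0 := by
  intro g hg
  have hgx : Commute g x := Subgroup.mem_centralizer_singleton_iff.1 hg
  suffices hy : g * (z * v) * g⁻¹ ∈ G0 from S.mem_of_conj_mem S.zv_mem_G0 S.zv hy
  set y := g * (z * v) * g⁻¹ with hy
  have hwx : Commute (z * v) x := S.cxz.symm.mul_left S.cxv.symm
  have hyx : Commute y x := (hgx.mul_left hwx).mul_left hgx.inv_left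
  have hzy : IsConj z y := (isConj_conj_iff g).2 S.zv
  have hy2 : orderOf y = 2 := by
    obtain ⟨c, hc⟩ := isConj_iff.1 hzy
    rw [← hc, Involutions.Basic.orderOf_conj_eq, S.hz]
  have hxy : IsConj z (x * y) := by
    have e : x * y = g * (x * (z * v)) * g⁻¹ := by rw [conj_mul g x, conj_fix hgx]
    rw [e, isConj_conj_iff,
      show x * (z * v) = z * (x * v) by rw [← mul_assoc, S.cxz.eq, mul_assoc]]
    exact S.zxv
  have hxz : ¬IsConj z (x * z) := by rw [S.cxz.eq]; exact S.nxz
  -- conjugates of `z` and `y` by elements commuting with `x` are distinguished by `x`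
  have hsep : ∀ d, Commute d x → d * z * d⁻¹ ≠ y := by
    intro d hd e
    refine hxz ?_
    rw [← isConj_conj_iff d, conj_mul, conj_fix hd, e]
    exact hxy
  have hodd : Even (orderOf (z * y)) := by
    by_contra h
    obtain ⟨d, hd, e⟩ := Involutions.Basic.exists_conj_of_odd
      (Involutions.Basic.invol_mul_self S.hz) (Involutions.Basic.invol_mul_self hy2)
      (Nat.not_even_iff_odd.1 h)
    have hle : Subgroup.closure ({z, y} : Set G) ≤ Subgroup.centralizer ({x} : Set G) := by
      rw [Subgroup.closure_le]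
      rintro u (rfl | rfl)
      · exact Subgroup.mem_centralizer_singleton_iff.2 S.cxz.symm.eq
      · exact Subgroup.mem_centralizer_singleton_iff.2 hyx.eq
    exact hsep d (Subgroup.mem_centralizer_singleton_iff.1 (hle hd)) e
  obtain ⟨hi2, hiz, hiy⟩ := Involutions.Basic.central_invol S.hz hy2 hodd
  set i := (z * y) ^ (orderOf (z * y) / 2) with hi
  have hix : Commute i x := (S.cxz.symm.mul_left hyx).pow_left _
  have hi0 : i ∈ G0 := S.cent (Subgroup.mem_centralizer_singleton_iff.2 hiz.eq)
  by_cases h1 : IsConj z i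
  · exact S.cent_le hi0 h1 hiy.symm
  by_cases h2 : IsConj z (x * i)
  · exact S.cent_le (mul_mem S.x_mem_G0 hi0) h2 (hyx.mul_right hiy.symm)
  -- `z * i` is conjugate to `z` or to `y` in the dihedral group
  have hzi : IsConj z (z * i) := by
    have hzz := Involutions.Basic.invol_mul_self S.hz
    have hyy := Involutions.Basic.invol_mul_self hy2
    have hcomm := Involutions.Basic.invert_comm hzz (Involutions.Basic.invert_mul hzz hyy)
    set r := z * y with hr
    rcases Nat.even_or_odd (orderOf r / 2) with ⟨j, hj⟩ | ⟨j, hj⟩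
    · refine isConj_iff.2 ⟨r ^ (-(j : ℤ)), ?_⟩
      rw [hi, hj, ← zpow_natCast, zpow_neg, inv_inv, ← zpow_neg, hcomm, mul_assoc, ← zpow_add,
        neg_neg]
      norm_num
    · refine hzy.trans (isConj_iff.2 ⟨r ^ (-(j : ℤ)), ?_⟩)
      have hyr : y = z * r := by rw [hr, ← mul_assoc, hzz, one_mul]
      rw [hi, hj, ← zpow_natCast, zpow_neg, inv_inv, ← zpow_neg, hyr,
        show r ^ (-(j : ℤ)) * (z * r) = r ^ (-(j : ℤ)) * z * r by rw [mul_assoc], hcomm, neg_neg,
        mul_assoc, mul_assoc, ← zpow_one_add, ← zpow_add]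
      push_cast
      ring_nf
  have hne : i ≠ x := fun e => S.nxz (e ▸ hzi)
  have hiD : y ∈ cD x v := by
    rcases S.cand i hiz hix hi2 hne h1 h2 hzi with e | e
    · exact mem_cD.2 ⟨hyx, e ▸ hiy.symm⟩
    · refine mem_cD.2 ⟨hyx, ?_⟩
      have h := hyx.mul_right (e ▸ hiy.symm : Commute y (x * v))
      rwa [← mul_assoc, Involutions.Basic.invol_mul_self S.hx, one_mul] at h
  exact S.cD_le_G0 hiD

/-- `G0` is the whole group. -/
theorem top : G0 = ⊤ := by
  have hX : ∀ g : G, g * x * g⁻¹ ∈ G0 := by
    intro g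
    set y := g * x * g⁻¹ with hy
    have hy2 : orderOf y = 2 := by rw [hy, Involutions.Basic.orderOf_conj_eq, S.hx]
    have hny : ¬IsConj z y := by rw [hy, isConj_conj_iff]; exact S.nx
    have heven : Even (orderOf (z * y)) := by
      by_contra h
      exact hny (Involutions.Basic.isConj_of_odd S.hz hy2 (Nat.not_even_iff_odd.1 h))
    obtain ⟨hi2, hiz, hiy⟩ := Involutions.Basic.central_invol S.hz hy2 heven
    set i := (z * y) ^ (orderOf (z * y) / 2) with hi
    have hi0 : i ∈ G0 := S.cent (Subgroup.mem_centralizer_singleton_iff.2 hiz.eq)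
    by_cases h1 : IsConj z i
    · exact S.cent_le hi0 h1 hiy.symm
    · obtain ⟨c, hc, hci⟩ := S.invol i hiz hi2 h1
      have h := hiy.symm.map (MulAut.conj c⁻¹).toMonoidHom
      have h' : c⁻¹ * y * c ∈ Subgroup.centralizer ({x} : Set G) := by
        refine Subgroup.mem_centralizer_singleton_iff.2 ?_
        simpa [← hci, mul_assoc, Commute, SemiconjBy] using h
      simpa [mul_assoc] using mul_mem (mul_mem hc (S.cX_le_G0 h')) (inv_mem hc)
  obtain ⟨c, -, hcx⟩ := S.ab (z * x) ((Commute.refl z).mul_left S.cxz)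
    (orderOf_eq_prime (by
        rw [pow_two, show z * x * (z * x) = z * (x * z) * x by simp only [mul_assoc], S.cxz.eq,
          show z * (z * x) * x = (z * z) * (x * x) by simp only [mul_assoc],
          Involutions.Basic.invol_mul_self S.hz, Involutions.Basic.invol_mul_self S.hx, one_mul])
      (fun h => S.hvx.elim (by
        exfalso
        have : z = x := by
          rw [mul_eq_one_iff_eq_inv, Involutions.Basic.invol_inv S.hx] at h; exact h
        exact S.nx (this ▸ IsConj.refl z))))
    S.nxz (by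
      rw [← mul_assoc, Involutions.Basic.invol_mul_self S.hz, one_mul]; exact S.nx)
  rw [eq_top_iff]
  intro g _
  have hz0 : z ∈ G0 := S.cent (Subgroup.mem_centralizer_singleton_iff.2 rfl)
  refine S.mem_of_conj_mem hz0 (IsConj.refl z) ?_
  have h1 := mul_mem (hX (g * c)) (hX g)
  have e : g * c * x * (g * c)⁻¹ * (g * x * g⁻¹) = g * z * g⁻¹ := by
    rw [show g * c * x * (g * c)⁻¹ = g * (c * x * c⁻¹) * g⁻¹ by group, hcx,
      show g * (z * x) * g⁻¹ * (g * x * g⁻¹) = g * z * (x * x) * g⁻¹ by group,
      Involutions.Basic.invol_mul_self S.hx, mul_one]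
  rwa [e] at h1

end Setting

end Cfsg.Agent.Lib.HeEnd85
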