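import Cfsg.Agent.Lib.Involutions.Basic

/-!
# Held type: an overgroup of the centraliser of a 2-central involution

Owner: helper85. `G0` contains the centraliser of the involution `z` and controls fusion of `z`;
`x` is an involution of `C(z)` not conjugate to `z`; `x, v` generate a four group without conjugates
of `z`.  An involution `s` is of type `Tz` when it is conjugate to `z` and `x * s` is not.
-/

set_option autoImplicit false
set_option linter.unusedSectionVars false

namespace Cfsg.Agent.Lib.HeEnd85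

variable {G : Type*} [Group G]

/-- An element conjugate to `z` whose product with `x` is not. -/
def Tz (z x s : G) : Prop := IsConj z s ∧ ¬IsConj z (x * s)

/-- The common centraliser of two elements. -/
abbrev cD (x v : G) : Subgroup G :=
  Subgroup.centralizer ({x} : Set G) ⊓ Subgroup.centralizer ({v} : Set G)

/-- Its part centralising `z`. -/
abbrev cP (z x v : G) : Subgroup G := Subgroup.centralizer ({z} : Set G) ⊓ cD x v

/-- The four group. -/
abbrev cV (x v : G) : Subgroup G := Subgroup.closure ({x, v} : Set G)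

/-- The data extracted from the involution centraliser and the fusion in `G0`. -/
structure Setting (G0 : Subgroup G) (z x v : G) : Prop where
  hz : orderOf z = 2
  hx : orderOf x = 2
  hv : orderOf v = 2
  cxz : Commute x z
  cvz : Commute v z
  cxv : Commute x v
  hvx : v ≠ x
  cent : Subgroup.centralizer ({z} : Set G) ≤ G0
  fuse : ∀ i ∈ G0, IsConj z i → ∃ h ∈ G0, h * z * h⁻¹ = i
  invol : ∀ i, Commute i z → orderOf i = 2 → ¬IsConj z i → ∃ h ∈ G0, h * x * h⁻¹ = i
  ab : ∀ i, Commute i z → orderOf i = 2 → ¬IsConj z i → ¬IsConj z (z * i) →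
    ∃ h, Commute h z ∧ h * x * h⁻¹ = i
  nx : ¬IsConj z x
  nxz : ¬IsConj z (z * x)
  nv : ¬IsConj z v
  nxv : ¬IsConj z (x * v)
  zv : IsConj z (z * v)
  zxv : IsConj z (z * (x * v))
  cand : ∀ i, Commute i z → Commute i x → orderOf i = 2 → i ≠ x → ¬IsConj z i →
    ¬IsConj z (x * i) → IsConj z (z * i) → i = v ∨ i = x * v
  swap : ∃ h, Commute h z ∧ Commute h x ∧ h * v * h⁻¹ = x * v
  cardP : Nat.card (cP z x v) = 256
  sv : ∀ s ∈ cP z x v, Tz z x s → IsConj z (s * v)
  coset : ∀ k ∈ cP z x v, k ∉ cV x v → k * k ∈ cV x v →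
    ∃ w ∈ cV x v, Tz z x (k * w) ∧ ∀ w' ∈ cV x v, Tz z x (k * w') → w' = w
  gen : cP z x v ≤ Subgroup.closure ({x, v} ∪ {s | s ∈ cP z x v ∧ Tz z x s})
  noncentral : ∃ s ∈ cP z x v, Tz z x s ∧ ∃ h ∈ cP z x v, ¬Commute s h
  oddCentral : Odd (Nat.card {s : G // s ∈ cP z x v ∧ Tz z x s ∧ ∀ h ∈ cP z x v, Commute s h})

theorem isConj_conj_iff {z a : G} (g : G) : IsConj z (g * a * g⁻¹) ↔ IsConj z a := by
  refine ⟨fun h => h.trans (isConj_iff.2 ⟨g⁻¹, by group⟩), fun h => h.trans (isConj_iff.2 ⟨g, rfl⟩)⟩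

theorem conj_mul (g a b : G) : g * (a * b) * g⁻¹ = g * a * g⁻¹ * (g * b * g⁻¹) := by group

theorem conj_fix {g a : G} (h : Commute g a) : g * a * g⁻¹ = a := by
  rw [h.eq, mul_inv_cancel_right]

theorem commute_of_fix {g a : G} (h : g * a * g⁻¹ = a) : Commute g a :=
  mul_inv_eq_iff_eq_mul.1 h

theorem tz_conj_iff {z x s : G} {g : G} (hg : Commute g x) :
    Tz z x (g * s * g⁻¹) ↔ Tz z x s := by
  have e : x * (g * s * g⁻¹) = g * (x * s) * g⁻¹ := by rw [conj_mul, conj_fix hg]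
  simp only [Tz, e, isConj_conj_iff]

theorem mem_cD {x v g : G} : g ∈ cD x v ↔ Commute g x ∧ Commute g v := by
  simp only [cD, Subgroup.mem_inf, Subgroup.mem_centralizer_singleton_iff]
  rfl

theorem mem_cP {z x v g : G} : g ∈ cP z x v ↔ Commute g z ∧ Commute g x ∧ Commute g v := by
  rw [cP, Subgroup.mem_inf, mem_cD, Subgroup.mem_centralizer_singleton_iff]
  rfl

namespace Setting

variable {G0 : Subgroup G} {z x v : G} (S : Setting G0 z x v)
include S

theorem mem_cV {w : G} : w ∈ cV x v ↔ w = 1 ∨ w = x ∨ w = v ∨ w = x * v := by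
  have hx := Involutions.Basic.invol_mul_self S.hx
  have hv := Involutions.Basic.invol_mul_self S.hv
  constructor
  · intro h
    have hsq : (x * v) * (x * v) = 1 := by
      calc x * v * (x * v) = x * (v * x) * v := by simp only [mul_assoc]
        _ = x * (x * v) * v := by rw [S.cxv.eq]
        _ = (x * x) * (v * v) := by simp only [mul_assoc]
        _ = 1 := by rw [hx, hv, one_mul]
    have key : ∀ k : ℤ, (x * v) ^ k = 1 ∨ (x * v) ^ k = x * v := by
      intro k
      rcases Int.even_or_odd k with ⟨j, rfl⟩ | ⟨j, rfl⟩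
      · left; rw [← two_mul, zpow_mul, zpow_two, hsq, one_zpow]
      · right; rw [zpow_add, zpow_mul, zpow_two, hsq, one_zpow, one_mul, zpow_one]
    obtain ⟨k, rfl | rfl⟩ := (Involutions.Basic.mem_closure_pair hx hv).1 h <;>
      rcases key k with e | e <;> rw [e]
    · exact Or.inl rfl
    · exact Or.inr (Or.inr (Or.inr rfl))
    · exact Or.inr (Or.inl (mul_one x))
    · exact Or.inr (Or.inr (Or.inl (by rw [← mul_assoc, hx, one_mul])))
  · have hmx : x ∈ cV x v := Subgroup.subset_closure (Or.inl rfl)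
    have hmv : v ∈ cV x v := Subgroup.subset_closure (Or.inr rfl)
    rintro (rfl | rfl | rfl | rfl)
    · exact one_mem _
    · exact hmx
    · exact hmv
    · exact mul_mem hmx hmv

theorem card_cV : Nat.card (cV x v) = 4 := by
  have h1 : (1 : G) ≠ x := (Involutions.Basic.invol_ne_one S.hx).symm
  have h2 : (1 : G) ≠ v := (Involutions.Basic.invol_ne_one S.hv).symm
  have h3 : (1 : G) ≠ x * v := fun h => S.hvx (by
    rw [eq_inv_of_mul_eq_one_right h.symm, Involutions.Basic.invol_inv S.hx])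
  have h4 : x ≠ v := S.hvx.symm
  have h5 : x ≠ x * v := fun h => h2 (mul_left_cancel ((mul_one x).trans h))
  have h6 : v ≠ x * v := fun h => h1 (mul_right_cancel ((one_mul v).trans h))
  have e : ((cV x v : Subgroup G) : Set G) = {1, x, v, x * v} := by
    ext w; simp [S.mem_cV]
  rw [← SetLike.coe_sort_coe, e, Nat.card_coe_set_eq,
    Set.ncard_insert_of_notMem (by simp [h1, h2, h3]) (Set.toFinite _),
    Set.ncard_insert_of_notMem (by simp [h4, h5]) (Set.toFinite _),
    Set.ncard_pair h6]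

theorem cV_le_cP : cV x v ≤ cP z x v := by
  rw [Subgroup.closure_le]
  rintro w (rfl | rfl)
  · exact mem_cP.2 ⟨S.cxz, Commute.refl _, S.cxv⟩
  · exact mem_cP.2 ⟨S.cvz, S.cxv.symm, Commute.refl _⟩

theorem commute_cV {g w : G} (hg : g ∈ cD x v) (hw : w ∈ cV x v) : Commute g w := by
  obtain ⟨hgx, hgv⟩ := mem_cD.1 hg
  rcases S.mem_cV.1 hw with rfl | rfl | rfl | rfl
  · exact Commute.one_right g
  · exact hgx
  · exact hgv
  · exact hgx.mul_right hgv

theorem not_isConj_of_mem_cV {w : G} (hw : w ∈ cV x v) : ¬IsConj z w := by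
  rcases S.mem_cV.1 hw with rfl | rfl | rfl | rfl
  · intro h
    exact Involutions.Basic.invol_ne_one S.hz (isConj_one_left.1 h)
  · exact S.nx
  · exact S.nv
  · exact S.nxv

theorem sq_cV {w : G} (hw : w ∈ cV x v) : w * w = 1 := by
  rcases S.mem_cV.1 hw with rfl | rfl | rfl | rfl
  · exact mul_one 1
  · exact Involutions.Basic.invol_mul_self S.hx
  · exact Involutions.Basic.invol_mul_self S.hv
  · calc x * v * (x * v) = x * (v * x) * v := by simp only [mul_assoc]
      _ = x * (x * v) * v := by rw [S.cxv.eq]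
      _ = (x * x) * (v * v) := by simp only [mul_assoc]
      _ = 1 := by
        rw [Involutions.Basic.invol_mul_self S.hx, Involutions.Basic.invol_mul_self S.hv, one_mul]

theorem z_mem_cP : z ∈ cP z x v := mem_cP.2 ⟨Commute.refl _, S.cxz.symm, S.cvz.symm⟩

theorem tz_z : Tz z x z := ⟨IsConj.refl z, by rw [S.cxz.eq]; exact S.nxz⟩

theorem orderOf_tz {s : G} (hs : Tz z x s) : orderOf s = 2 := by
  obtain ⟨c, rfl⟩ := isConj_iff.1 hs.1
  rw [Involutions.Basic.orderOf_conj_eq, S.hz]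

theorem cP_le_G0 : cP z x v ≤ G0 := inf_le_left.trans S.cent

/-- Centralisers in `G` of conjugates of `z` lying in `G0` lie in `G0`. -/
theorem cent_le {s g : G} (hs : s ∈ G0) (h : IsConj z s) (hg : Commute g s) : g ∈ G0 := by
  obtain ⟨c, hc, rfl⟩ := S.fuse s hs h
  have h1 : c⁻¹ * g * c ∈ G0 := S.cent (Subgroup.mem_centralizer_singleton_iff.2 (by
    calc c⁻¹ * g * c * z = c⁻¹ * (g * (c * z * c⁻¹)) * c := by group
      _ = c⁻¹ * (c * z * c⁻¹ * g) * c := by rw [hg.eq]
      _ = z * (c⁻¹ * g * c) := by group))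
  have := mul_mem (mul_mem hc h1) (inv_mem hc)
  simpa [mul_assoc] using this

/-- `G0` controls the fusion of `z`. -/
theorem mem_of_conj_mem {s g : G} (hs : s ∈ G0) (h : IsConj z s) (hg : g * s * g⁻¹ ∈ G0) :
    g ∈ G0 := by
  obtain ⟨a, ha, ea⟩ := S.fuse s hs h
  obtain ⟨b, hb, eb⟩ := S.fuse _ hg ((isConj_conj_iff g).2 h)
  have h1 : b⁻¹ * g * a ∈ G0 := by
    refine S.cent (Subgroup.mem_centralizer_singleton_iff.2 ?_)
    have e : b * z * b⁻¹ = g * (a * z * a⁻¹) * g⁻¹ := by rw [ea, eb]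
    calc b⁻¹ * g * a * z = b⁻¹ * (g * (a * z * a⁻¹) * g⁻¹) * (g * a) := by group
      _ = b⁻¹ * (b * z * b⁻¹) * (g * a) := by rw [e]
      _ = z * (b⁻¹ * g * a) := by group
  have := mul_mem (mul_mem hb h1) (inv_mem ha)
  simpa [mul_assoc] using this

/-- An element of type `Tz` in the part of `G0` centralising the four group is conjugate to `z`
there, once its product with `v` is known to be conjugate to `z`. -/
theorem exists_conj {s : G} (hs : s ∈ cD x v ⊓ G0) (ht : Tz z x s) (hsv : IsConj z (s * v)) :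
    ∃ k ∈ cD x v ⊓ G0, k * z * k⁻¹ = s := by
  obtain ⟨hsD, hs0⟩ := hs
  obtain ⟨hsx, hsv'⟩ := mem_cD.1 hsD
  obtain ⟨h, hh, hhs⟩ := S.fuse s hs0 ht.1
  have hsc : ∀ {a : G}, Commute s a → Commute (h⁻¹ * a * h⁻¹⁻¹) z := by
    intro a ha
    have := ha.symm.map (MulAut.conj h⁻¹).toMonoidHom
    simpa [← hhs, mul_assoc] using this
  obtain ⟨c, hcz, hcx⟩ := S.ab (h⁻¹ * x * h⁻¹⁻¹) (hsc hsx)
    (by rw [Involutions.Basic.orderOf_conj_eq]; exact S.hx)
    (by rw [isConj_conj_iff]; exact S.nx)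
    (by
      have e : z * (h⁻¹ * x * h⁻¹⁻¹) = h⁻¹ * (s * x) * h⁻¹⁻¹ := by rw [← hhs]; group
      rw [e, isConj_conj_iff, hsx.eq]; exact ht.2)
  have hc0 : c ∈ G0 := S.cent (Subgroup.mem_centralizer_singleton_iff.2 hcz.eq)
  set k := h * c with hk
  have hkz : k * z * k⁻¹ = s := by
    rw [hk, ← hhs, show h * c * z * (h * c)⁻¹ = h * (c * z * c⁻¹) * h⁻¹ by group, conj_fix hcz]
  have hkx : k * x * k⁻¹ = x := by
    rw [hk, show h * c * x * (h * c)⁻¹ = h * (c * x * c⁻¹) * h⁻¹ by group, hcx]; group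
  have hk0 : k ∈ G0 := mul_mem hh hc0
  have hkc : Commute k x := commute_of_fix hkx
  have hkc' : Commute k⁻¹ x := hkc.inv_left
  set w := k⁻¹ * v * k⁻¹⁻¹ with hw
  have hzs : k⁻¹ * s * k⁻¹⁻¹ = z := by rw [← hkz]; group
  have hxx : k⁻¹ * x * k⁻¹⁻¹ = x := conj_fix hkc'
  have hwz : Commute w z := by
    have := hsv'.symm.map (MulAut.conj k⁻¹).toMonoidHom
    rw [← hzs]; simpa [hw] using this
  have hwx : Commute w x := by
    have := S.cxv.symm.map (MulAut.conj k⁻¹).toMonoidHom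
    rw [← hxx]; simpa [hw] using this
  have hwne : w ≠ x := fun e => S.hvx (by
    have : k⁻¹ * v * k⁻¹⁻¹ = k⁻¹ * x * k⁻¹⁻¹ := by rw [hxx]; exact e
    simpa using this)
  rcases S.cand w hwz hwx (by rw [hw, Involutions.Basic.orderOf_conj_eq]; exact S.hv) hwne
    (by rw [hw, isConj_conj_iff]; exact S.nv)
    (by
      have e : x * w = k⁻¹ * (x * v) * k⁻¹⁻¹ := by rw [conj_mul, hxx]
      rw [e, isConj_conj_iff]; exact S.nxv)
    (by
      have e : z * w = k⁻¹ * (s * v) * k⁻¹⁻¹ := by rw [conj_mul, hzs]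
      rw [e, isConj_conj_iff]; exact hsv) with e | e
  · refine ⟨k, ⟨mem_cD.2 ⟨hkc, ?_⟩, hk0⟩, hkz⟩
    exact (commute_of_fix e).inv_left |> fun h' => by simpa using h'
  · obtain ⟨g, hgz, hgx, hgv⟩ := S.swap
    have hg0 : g ∈ G0 := S.cent (Subgroup.mem_centralizer_singleton_iff.2 hgz.eq)
    refine ⟨k * g, ⟨mem_cD.2 ⟨hkc.mul_left hgx, commute_of_fix ?_⟩, mul_mem hk0 hg0⟩, ?_⟩
    · rw [show k * g * v * (k * g)⁻¹ = k * (g * v * g⁻¹) * k⁻¹ by group, hgv, ← e, hw]; group
    · rw [show k * g * z * (k * g)⁻¹ = k * (g * z * g⁻¹) * k⁻¹ by group, conj_fix hgz, hkz]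

end Setting

end Cfsg.Agent.Lib.HeEnd85
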