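import Cfsg.Agent.Lib.HeEnd85.Count
import Cfsg.Agent.Lib.KegelWielandt.Main
import Cfsg.Agent.Lib.RankFour54.Struct

/-!
# Held type: `C(x, v)` lies in `G0`

Owner: helper85. Otherwise `K0 = cD ⊓ G0` is soluble by Kegel-Wielandt, has no normal subgroup of
odd order (three commuting involutions with 2-groups as centralisers), and its 2-core would contain
every element of type `Tz`, hence `cP`, which would then centralise each of them.
-/

set_option autoImplicit false
set_option linter.unusedSectionVars false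

namespace Cfsg.Agent.Lib.HeEnd85

variable {G : Type*} [Group G] [Finite G] {G0 : Subgroup G} {z x v : G}

/-- An involution acting without fixed points inverts. -/
theorem inverts {K : Subgroup G} {a : G} (ha : a * a = 1) (hn : ∀ k ∈ K, a * k * a⁻¹ ∈ K)
    (hf : ∀ k ∈ K, Commute a k → k = 1) : ∀ k ∈ K, a * k * a⁻¹ = k⁻¹ := by
  let φ : ↥K →* ↥K :=
    { toFun := fun k => ⟨a * k * a⁻¹, hn k k.2⟩
      map_one' := Subtype.ext (by simp)
      map_mul' := fun k l => Subtype.ext (by simp [mul_assoc]) }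
  have hφ : MonoidHom.FixedPointFree φ := fun k hk =>
    Subtype.ext (hf k k.2 (mul_inv_eq_iff_eq_mul.1 (congrArg Subtype.val hk)))
  have hinv : Function.Involutive φ := fun k => Subtype.ext (by
    show a * (a * (k : G) * a⁻¹) * a⁻¹ = k
    calc a * (a * (k : G) * a⁻¹) * a⁻¹ = a * a * k * (a * a)⁻¹ := by group
      _ = k := by simp [ha])
  intro k hk
  exact congrArg Subtype.val (congrFun (hφ.coe_eq_inv_of_involutive hinv) ⟨k, hk⟩)

namespace Setting

variable (S : Setting G0 z x v)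
include S

/-- Elements of odd order commuting with one of type `Tz` are trivial. -/
theorem eq_one_of_commute {s k : G} (hs : s ∈ cD x v) (ht : Tz z x s) (hk : k ∈ cD x v)
    (hodd : Odd (orderOf k)) (hc : Commute s k) : k = 1 := by
  have hmem : k ∈ Subgroup.centralizer ({s} : Set G) ⊓ cD x v :=
    ⟨Subgroup.mem_centralizer_singleton_iff.2 hc.symm.eq, hk⟩
  have h := orderOf_dvd_natCard (⟨k, hmem⟩ : ↥(Subgroup.centralizer ({s} : Set G) ⊓ cD x v))
  rw [Subgroup.orderOf_mk, S.card_cent hs ht, show (256 : ℕ) = 2 ^ 8 by norm_num] at h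
  obtain ⟨j, -, hj⟩ := (Nat.dvd_prime_pow Nat.prime_two).1 h
  cases j with
  | zero => exact orderOf_eq_one_iff.1 (hj.trans (pow_zero 2))
  | succ j =>
    rw [hj, pow_succ] at hodd
    exact absurd hodd (Nat.not_odd_iff_even.2 (Nat.even_mul.2 (Or.inr even_two)))

theorem cD_le_G0 : cD x v ≤ G0 := by
  classical
  by_contra hne
  haveI : Fact (Nat.Prime 2) := ⟨Nat.prime_two⟩
  obtain ⟨B, hBK, hBn, hfac⟩ := S.exists_factor hne
  set K := cD x v ⊓ G0 with hK
  have hPK : cP z x v ≤ K := S.cP_le_K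
  have hPn : Group.IsNilpotent ((cP z x v).subgroupOf K) :=
    (IsPGroup.of_card (p := 2) (n := 8) (by
      rw [Nat.card_congr (Subgroup.subgroupOfEquivOfLe hPK).toEquiv, S.cardP]; rfl)).isNilpotent
  haveI hsol : Group.IsSolvable ↥K :=
    KegelWielandt.isSolvable hPn
      (Group.nilpotent_of_mulEquiv (_h := hBn) (Subgroup.subgroupOfEquivOfLe hBK).symm)
      (fun g => by
        obtain ⟨a, ha, b, hb, e⟩ := hfac g g.2
        exact ⟨⟨a, hPK ha⟩, Subgroup.mem_subgroupOf.2 ha, ⟨b, hBK hb⟩,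
          Subgroup.mem_subgroupOf.2 hb, Subtype.ext e⟩)
  obtain ⟨s, hsP, hst, h0, hh0, hsh⟩ := S.noncentral
  have hss := Involutions.Basic.invol_mul_self (S.orderOf_tz hst)
  have hzz := Involutions.Basic.invol_mul_self S.hz
  have hzs : Commute z s := (mem_cP.1 hsP).1.symm
  -- no normal subgroup of odd order
  have hcore : Cfsg.pPrimeCore 2 ↥K = ⊥ := by
    set O := (Cfsg.pPrimeCore 2 ↥K).map K.subtype with hO
    have hOn : ∀ a ∈ K, ∀ k ∈ O, a * k * a⁻¹ ∈ O := by
      rintro a ha _ ⟨k, hk, rfl⟩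
      exact ⟨⟨a, ha⟩ * k * ⟨a, ha⟩⁻¹,
        (show (Cfsg.pPrimeCore 2 ↥K).Normal from inferInstance).conj_mem k hk ⟨a, ha⟩, rfl⟩
    have hOodd : ∀ k ∈ O, k ∈ cD x v ∧ Odd (orderOf k) := by
      rintro _ ⟨k, hk, rfl⟩
      refine ⟨k.2.1, ?_⟩
      have h := orderOf_dvd_natCard (⟨k, hk⟩ : ↥(Cfsg.pPrimeCore 2 ↥K))
      rw [Subgroup.orderOf_mk, ← Subgroup.orderOf_coe] at h
      exact Odd.of_dvd_nat (Nat.coprime_two_right.1 (Cores.pPrimeCore_coprime 2)) h
    have hfix : ∀ u : G, u ∈ cD x v → Tz z x u → ∀ k ∈ O, Commute u k → k = 1 :=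
      fun u hu ht k hk hc => S.eq_one_of_commute hu ht (hOodd k hk).1 (hOodd k hk).2 hc
    have hzsV : z * s ∉ cV x v := by
      intro h
      obtain ⟨w, -, -, hu⟩ := S.coset z S.z_mem_cP (fun hh => S.not_isConj_of_mem_cV hh (IsConj.refl z))
        (by rw [hzz]; exact one_mem _)
      have e1 := hu 1 (one_mem _) (by rw [mul_one]; exact S.tz_z)
      have e2 := hu (z * s) h (by rw [← mul_assoc, hzz, one_mul]; exact hst)
      have hzs' : z = s := by
        have := e2.trans e1.symm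
        rw [mul_eq_one_iff_eq_inv, Involutions.Basic.invol_inv (S.orderOf_tz hst)] at this
        exact this
      exact hsh (hzs' ▸ ((mem_cP.1 hh0).1.symm : Commute z h0))
    have hzs2 : z * s * (z * s) = 1 := by
      calc z * s * (z * s) = z * (s * z) * s := by simp only [mul_assoc]
        _ = z * (z * s) * s := by rw [hzs.eq]
        _ = (z * z) * (s * s) := by simp only [mul_assoc]
        _ = 1 := by rw [hzz, hss, one_mul]
    obtain ⟨w, hw, hr, -⟩ := S.coset (z * s) (mul_mem S.z_mem_cP hsP) hzsV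
      (by rw [hzs2]; exact one_mem _)
    have hObot : O = ⊥ := by
      rw [Subgroup.eq_bot_iff_forall]
      intro k hk
      have h1 := inverts hzz (hOn z (hPK S.z_mem_cP)) (hfix z S.z_mem_cP.2 S.tz_z)
      have h2 := inverts hss (hOn s (hPK hsP)) (hfix s hsP.2 hst)
      have hc : Commute (z * s) k := by
        refine commute_of_fix ?_
        rw [show z * s * k * (z * s)⁻¹ = z * (s * k * s⁻¹) * z⁻¹ by group, h2 k hk,
          h1 _ (inv_mem hk), inv_inv]
      exact hfix _ ((mul_mem (mul_mem S.z_mem_cP hsP) (S.cV_le_cP hw)).2) hr k hk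
        (hc.mul_left (S.commute_cV (hOodd k hk).1 hw).symm)
    rwa [hO, Subgroup.map_eq_bot_iff_of_injective _ (Subgroup.subtype_injective K)] at hObot
  have hcent := RankFour54.Struct.centralizer_pCore_le hcore
  set M := Cfsg.pCore 2 ↥K with hM
  set V' := (cV x v).subgroupOf K with hV'
  have hVc : ∀ w ∈ V', ∀ k : ↥K, k * w = w * k := fun w hw k =>
    Subtype.ext (S.commute_cV k.2.1 (Subgroup.mem_subgroupOf.1 hw)).eq
  -- the core is bigger than the four group
  obtain ⟨m, hm, hmV⟩ : ∃ m ∈ M, (m : G) ∉ cV x v := by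
    by_contra h
    push_neg at h
    have hz : (⟨z, hPK S.z_mem_cP⟩ : ↥K) ∈ M := by
      refine hcent (Subgroup.mem_centralizer_iff.2 fun m hm => ?_)
      exact (hVc m (Subgroup.mem_subgroupOf.2 (h m hm)) _).symm
    exact S.not_isConj_of_mem_cV (h _ hz) (IsConj.refl z)
  obtain ⟨n, hn⟩ := IsPGroup.iff_orderOf.1 (Cores.pCore_isPGroup 2) (⟨m, hm⟩ : M)
  have hn' : (m : G) ^ (2 ^ n) = 1 := by
    have := pow_orderOf_eq_one (⟨m, hm⟩ : M)
    rw [hn] at this
    exact congrArg (fun a : M => ((a : ↥K) : G)) this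
  obtain ⟨k, hk, hkV, hk2⟩ : ∃ k ∈ M, (k : G) ∉ cV x v ∧ (k : G) * k ∈ cV x v := by
    clear hn
    induction n generalizing m with
    | zero => rw [pow_zero, pow_one] at hn'; exact absurd (hn' ▸ one_mem _) hmV
    | succ n ih =>
      by_cases h : (m : G) * m ∈ cV x v
      · exact ⟨m, hm, hmV, h⟩
      · refine ih (m * m) (mul_mem hm hm) h ?_
        push_cast
        rw [← pow_two, ← pow_mul, show 2 * 2 ^ n = 2 ^ (n + 1) by rw [pow_succ]; ring]
        exact hn'
  obtain ⟨w, hw, hr, -⟩ := S.coset_cD k.2.1 hkV hk2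
  have hrK : (k : G) * w ∈ K := mul_mem k.2 (hPK (S.cV_le_cP hw))
  have hVM : ∀ u, ∀ hu : u ∈ cV x v, (⟨u, hPK (S.cV_le_cP hu)⟩ : ↥K) ∈ M := by
    intro u hu
    refine hcent (Subgroup.mem_centralizer_iff.2 fun m _ => ?_)
    exact hVc _ (Subgroup.mem_subgroupOf.2 hu) m
  have hrM : (⟨(k : G) * w, hrK⟩ : ↥K) ∈ M := mul_mem hk (hVM w hw)
  obtain ⟨a, ha, hak⟩ := S.tz_conj_G0 hrK hr
  have hTM : ∀ u, ∀ hu : u ∈ K, Tz z x u → (⟨u, hu⟩ : ↥K) ∈ M := by
    intro u hu ht
    obtain ⟨b, hb, hbk⟩ := S.tz_conj_G0 hu ht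
    have := (show M.Normal from inferInstance).conj_mem _ hrM (⟨b, hb⟩ * ⟨a, ha⟩⁻¹)
    refine (congrArg (· ∈ M) (Subtype.ext ?_)).mp this
    push_cast
    rw [← hak, ← hbk]
    group
  -- so it is `cP`
  have hle : cP z x v ≤ M.map K.subtype := by
    refine S.gen.trans ((Subgroup.closure_le _).2 ?_)
    rintro u ((rfl | rfl) | ⟨huP, hut⟩)
    · exact ⟨_, hVM _ (Subgroup.subset_closure (Or.inl rfl)), rfl⟩
    · exact ⟨_, hVM _ (Subgroup.subset_closure (Or.inr rfl)), rfl⟩
    · exact ⟨_, hTM u (hPK huP) hut, rfl⟩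
  have heq : cP z x v = M.map K.subtype := by
    refine Subgroup.eq_of_le_of_card_ge hle ?_
    rw [S.cardP]
    exact S.card_le ((Cores.pCore_isPGroup 2).map _) ((Subgroup.map_subtype_le _).trans inf_le_left)
  obtain ⟨b, hb, hbs⟩ := S.tz_conj_G0 (hPK hsP) hst
  obtain ⟨h', hh', e'⟩ : h0 ∈ M.map K.subtype := heq ▸ hh0
  have h3 : b⁻¹ * h0 * b ∈ cP z x v := by
    rw [heq]
    refine ⟨⟨b, hb⟩⁻¹ * h' * ⟨b, hb⟩, ?_, ?_⟩
    · have := (show M.Normal from inferInstance).conj_mem _ hh' (⟨b, hb⟩⁻¹)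
      rwa [inv_inv] at this
    · rw [← e']; rfl
  refine hsh ?_
  have := ((mem_cP.1 h3).1.symm).map (MulAut.conj b).toMonoidHom
  simpa [← hbs, mul_assoc] using this

end Setting

end Cfsg.Agent.Lib.HeEnd85
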