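import Cfsg.Agent.Lib.HeEnd85.Setting
import Mathlib.GroupTheory.Sylow
import Mathlib.GroupTheory.GroupAction.ConjAct
import Mathlib.GroupTheory.Nilpotent

/-!
# Held type: the Sylow subgroup of `C(x, v)`

Owner: helper85.
-/

set_option autoImplicit false
set_option linter.unusedSectionVars false

namespace Cfsg.Agent.Lib.HeEnd85

variable {G : Type*} [Group G] [Finite G]

/-- A conjugacy orbit of `z` under a subgroup, counted. -/
theorem card_orbit (H : Subgroup G) (z : G) :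
    Nat.card {s : G // ∃ k ∈ H, k * z * k⁻¹ = s} *
      Nat.card ↥(Subgroup.centralizer ({z} : Set G) ⊓ H) = Nat.card H := by
  set P := (Subgroup.centralizer ({z} : Set G)).subgroupOf H with hP
  have key : ∀ a b : H, a⁻¹ * b ∈ P ↔ (a : G) * z * (a : G)⁻¹ = b * z * (b : G)⁻¹ := by
    intro a b
    rw [hP, Subgroup.mem_subgroupOf, Subgroup.mem_centralizer_singleton_iff]
    push_cast
    constructor
    · intro h
      calc (a : G) * z * (a : G)⁻¹ = a * (z * ((a : G)⁻¹ * b)) * (b : G)⁻¹ := by group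
        _ = a * ((a : G)⁻¹ * b * z) * (b : G)⁻¹ := by rw [h]
        _ = b * z * (b : G)⁻¹ := by group
    · intro h
      calc (a : G)⁻¹ * b * z = (a : G)⁻¹ * (b * z * (b : G)⁻¹) * b := by group
        _ = (a : G)⁻¹ * (a * z * (a : G)⁻¹) * b := by rw [h]
        _ = z * ((a : G)⁻¹ * b) := by group
  let f : H ⧸ P → {s : G // ∃ k ∈ H, k * z * k⁻¹ = s} :=
    Quotient.lift (fun k => ⟨(k : G) * z * (k : G)⁻¹, k, k.2, rfl⟩)
      (fun a b h => Subtype.ext ((key a b).1 (QuotientGroup.leftRel_apply.1 h)))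
  have hf : Function.Bijective f := by
    constructor
    · intro p q
      refine QuotientGroup.induction_on p fun a => QuotientGroup.induction_on q fun b h => ?_
      exact QuotientGroup.eq.2 ((key a b).2 (congrArg Subtype.val h))
    · rintro ⟨s, k, hk, rfl⟩
      exact ⟨QuotientGroup.mk ⟨k, hk⟩, rfl⟩
  have hc : Nat.card P = Nat.card ↥(Subgroup.centralizer ({z} : Set G) ⊓ H) := by
    rw [hP, ← Subgroup.inf_subgroupOf_right]
    exact Nat.card_congr (Subgroup.subgroupOfEquivOfLe inf_le_right).toEquiv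
  rw [← Nat.card_eq_of_bijective f hf, ← hc, ← Subgroup.card_eq_card_quotient_mul_card_subgroup]

namespace Setting

variable {G0 : Subgroup G} {z x v : G} (S : Setting G0 z x v)
include S

theorem card_cent_of_conj {s k : G} (hk : k ∈ cD x v) (hks : k * z * k⁻¹ = s) :
    Nat.card ↥(Subgroup.centralizer ({s} : Set G) ⊓ cD x v) = 256 := by
  have e : (cP z x v).map (MulAut.conj k).toMonoidHom =
      Subgroup.centralizer ({s} : Set G) ⊓ cD x v := by
    ext g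
    rw [Subgroup.mem_map_equiv, MulAut.conj_symm_apply]
    refine ⟨fun ⟨h1, h2⟩ => ⟨?_, ?_⟩, fun ⟨h1, h2⟩ => ⟨?_, ?_⟩⟩
    · refine Subgroup.mem_centralizer_singleton_iff.2 ?_
      have h := Subgroup.mem_centralizer_singleton_iff.1 h1
      calc g * s = k * (k⁻¹ * g * k * z) * k⁻¹ := by rw [← hks]; group
        _ = k * (z * (k⁻¹ * g * k)) * k⁻¹ := by rw [h]
        _ = s * g := by rw [← hks]; group
    · have := mul_mem (mul_mem hk h2) (inv_mem hk)
      simpa [mul_assoc] using this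
    · refine Subgroup.mem_centralizer_singleton_iff.2 ?_
      have h := Subgroup.mem_centralizer_singleton_iff.1 h1
      calc k⁻¹ * g * k * z = k⁻¹ * (g * s) * k := by rw [← hks]; group
        _ = k⁻¹ * (s * g) * k := by rw [h]
        _ = z * (k⁻¹ * g * k) := by rw [← hks]; group
    · exact (cD x v).mul_mem ((cD x v).mul_mem ((cD x v).inv_mem hk) h2) hk
  rw [← e, Subgroup.card_map_of_injective (MulAut.conj k).injective, S.cardP]

theorem conj_of_mem_cP {s : G} (hs : s ∈ cP z x v) (ht : Tz z x s) :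
    ∃ k ∈ cD x v ⊓ G0, k * z * k⁻¹ = s :=
  S.exists_conj ⟨hs.2, S.cP_le_G0 hs⟩ ht (S.sv s hs ht)

/-- A 2-group between `cP` and `cD` normalising `cP` equals it. -/
theorem mem_of_normalize {g : G} (hg : g ∈ cD x v) {n : ℕ} (hg2 : orderOf g ∣ 2 ^ n)
    (hn : ∀ p, p ∈ cP z x v ↔ g * p * g⁻¹ ∈ cP z x v) : g ∈ cP z x v := by
  classical
  haveI : Fact (Nat.Prime 2) := ⟨Nat.prime_two⟩
  let C := {s : G // s ∈ cP z x v ∧ Tz z x s ∧ ∀ h ∈ cP z x v, Commute s h}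
  let N := Subgroup.zpowers g
  have hN : IsPGroup 2 N := by
    obtain ⟨j, _, hj⟩ := (Nat.dvd_prime_pow Nat.prime_two).1 hg2
    exact IsPGroup.of_card (by rw [Nat.card_zpowers, hj])
  have hnN : ∀ a ∈ N, a ∈ cD x v ∧ ∀ p, p ∈ cP z x v ↔ a * p * a⁻¹ ∈ cP z x v := by
    intro a ha
    have hle : N ≤ cD x v ⊓ Subgroup.normalizer ((cP z x v : Subgroup G) : Set G) :=
      (Subgroup.zpowers_le).2 ⟨hg, Subgroup.mem_normalizer_iff.2 hn⟩
    exact ⟨(hle ha).1, Subgroup.mem_normalizer_iff.1 (hle ha).2⟩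
  have hmem : ∀ a ∈ N, ∀ s : C, a * s.1 * a⁻¹ ∈ cP z x v ∧ Tz z x (a * s.1 * a⁻¹) ∧
      ∀ h ∈ cP z x v, Commute (a * s.1 * a⁻¹) h := by
    intro a ha s
    obtain ⟨haD, han⟩ := hnN a ha
    refine ⟨(han _).1 s.2.1, (tz_conj_iff (mem_cD.1 haD).1).2 s.2.2.1, fun h hh => ?_⟩
    obtain ⟨-, han'⟩ := hnN a⁻¹ (inv_mem ha)
    have := (s.2.2.2 _ ((han' h).1 hh)).map (MulAut.conj a).toMonoidHom
    simpa [mul_assoc] using this
  letI : MulAction N C :=
    { smul := fun a s => ⟨a.1 * s.1 * a.1⁻¹, hmem a.1 a.2 s⟩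
      one_smul := fun s => Subtype.ext (by
        show ((1 : N) : G) * s.1 * ((1 : N) : G)⁻¹ = s.1
        simp)
      mul_smul := fun a b s => Subtype.ext (by
        show ((a * b : N) : G) * s.1 * ((a * b : N) : G)⁻¹ =
          a.1 * (b.1 * s.1 * b.1⁻¹) * a.1⁻¹
        push_cast
        group) }
  obtain ⟨⟨c, hcP, hct, hcc⟩, hfix⟩ := hN.nonempty_fixed_point_of_prime_not_dvd_card C
    (by rw [Nat.two_dvd_ne_zero]; exact Nat.odd_iff.1 S.oddCentral)
  have hcg : Commute g c := by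
    have := congrArg Subtype.val (hfix ⟨g, Subgroup.mem_zpowers g⟩)
    exact commute_of_fix this
  obtain ⟨k, hk, hkc⟩ := S.conj_of_mem_cP hcP hct
  have heq : cP z x v = Subgroup.centralizer ({c} : Set G) ⊓ cD x v := by
    refine Subgroup.eq_of_le_of_card_ge (fun p hp => ⟨?_, hp.2⟩) ?_
    · exact Subgroup.mem_centralizer_singleton_iff.2 (hcc p hp).symm.eq
    · rw [S.card_cent_of_conj hk.1 hkc, S.cardP]
  rw [heq]
  exact ⟨Subgroup.mem_centralizer_singleton_iff.2 hcg.eq, hg⟩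

/-- `cP` is a Sylow 2-subgroup of `cD`. -/
theorem exists_sylow : ∃ P : Sylow 2 (cD x v),
    (P : Subgroup (cD x v)) = (cP z x v).subgroupOf (cD x v) := by
  haveI : Fact (Nat.Prime 2) := ⟨Nat.prime_two⟩
  set P' := (cP z x v).subgroupOf (cD x v) with hP'
  have hP : IsPGroup 2 P' := IsPGroup.of_card (n := 8) (by
    rw [hP', Nat.card_congr (Subgroup.subgroupOfEquivOfLe inf_le_right).toEquiv, S.cardP]
    norm_num)
  obtain ⟨Q, hQ⟩ := hP.exists_le_sylow
  refine ⟨Q, le_antisymm ?_ hQ⟩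
  by_contra hne
  have hlt : P'.subgroupOf (Q : Subgroup (cD x v)) < ⊤ := lt_top_iff_ne_top.2 (fun h =>
    hne (Subgroup.subgroupOf_eq_top.1 h))
  haveI : Group.IsNilpotent (Q : Subgroup (cD x v)) := Q.isPGroup'.isNilpotent
  obtain ⟨g, hgn, hgP⟩ := SetLike.exists_of_lt
    (Group.normalizerCondition_of_isNilpotent _ hlt)
  refine hgP (Subgroup.mem_subgroupOf.2 (Subgroup.mem_subgroupOf.2 ?_))
  obtain ⟨n, hn⟩ := IsPGroup.iff_orderOf.1 Q.isPGroup' g
  refine S.mem_of_normalize (n := n) g.1.2 ?_ fun p => ?_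
  · rw [Subgroup.orderOf_coe, Subgroup.orderOf_coe, hn]
  · constructor
    · intro hp
      have hpQ : (⟨p, hp.2⟩ : cD x v) ∈ (Q : Subgroup (cD x v)) := hQ (Subgroup.mem_subgroupOf.2 hp)
      exact Subgroup.mem_subgroupOf.1 (Subgroup.mem_subgroupOf.1
        ((Subgroup.mem_normalizer_iff.1 hgn ⟨⟨p, hp.2⟩, hpQ⟩).1
          (Subgroup.mem_subgroupOf.2 (Subgroup.mem_subgroupOf.2 hp))))
    · intro hp
      have hpD : p ∈ cD x v := by
        have := mul_mem (mul_mem (inv_mem g.1.2) hp.2) g.1.2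
        simpa [mul_assoc] using this
      have hpQ : (⟨p, hpD⟩ : cD x v) ∈ (Q : Subgroup (cD x v)) := by
        have h2 : (⟨(g.1 : G) * p * (g.1 : G)⁻¹, hp.2⟩ : cD x v) ∈ (Q : Subgroup (cD x v)) :=
          hQ (Subgroup.mem_subgroupOf.2 hp)
        have h3 : (⟨p, hpD⟩ : cD x v) =
            g.1⁻¹ * ⟨(g.1 : G) * p * (g.1 : G)⁻¹, hp.2⟩ * g.1 := Subtype.ext (by
          push_cast; group)
        rw [h3]
        exact mul_mem (mul_mem (inv_mem g.2) h2) g.2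
      exact Subgroup.mem_subgroupOf.1 (Subgroup.mem_subgroupOf.1
        ((Subgroup.mem_normalizer_iff.1 hgn ⟨⟨p, hpD⟩, hpQ⟩).2
          (Subgroup.mem_subgroupOf.2 (Subgroup.mem_subgroupOf.2 hp))))

/-- Every 2-subgroup of `cD` is conjugate into `cP`. -/
theorem conj_le {R : Subgroup G} (hR : IsPGroup 2 R) (hle : R ≤ cD x v) :
    ∃ d ∈ cD x v, ∀ r ∈ R, d * r * d⁻¹ ∈ cP z x v := by
  haveI : Fact (Nat.Prime 2) := ⟨Nat.prime_two⟩
  obtain ⟨P, hP⟩ := S.exists_sylow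
  obtain ⟨Q, hQ⟩ := (hR.of_equiv (Subgroup.subgroupOfEquivOfLe hle).symm).exists_le_sylow
  obtain ⟨d, hd⟩ := MulAction.exists_smul_eq (cD x v) Q P
  refine ⟨d, d.2, fun r hr => ?_⟩
  have h1 : (⟨r, hle hr⟩ : cD x v) ∈ (Q : Subgroup (cD x v)) := hQ (Subgroup.mem_subgroupOf.2 hr)
  have h2 : (MulAut.conj d).toMonoidHom ⟨r, hle hr⟩ ∈ (P : Subgroup (cD x v)) := by
    rw [← hd]
    exact Subgroup.smul_mem_pointwise_smul _ (MulAut.conj d) _ h1
  rw [hP] at h2
  exact Subgroup.mem_subgroupOf.1 h2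

/-- A 2-subgroup of `cD` has order at most `256`. -/
theorem card_le {R : Subgroup G} (hR : IsPGroup 2 R) (hle : R ≤ cD x v) :
    Nat.card R ≤ 256 := by
  obtain ⟨d, -, hd⟩ := S.conj_le hR hle
  rw [← Subgroup.card_map_of_injective (K := R) (f := (MulAut.conj d).toMonoidHom)
    (MulAut.conj d).injective, ← S.cardP]
  refine Subgroup.card_le_of_le ?_
  rintro _ ⟨r, hr, rfl⟩
  exact hd r hr

theorem isPGroup_zpowers {g : G} {n : ℕ} (hg : orderOf g ∣ 2 ^ n) :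
    IsPGroup 2 (Subgroup.zpowers g) := by
  obtain ⟨j, _, hj⟩ := (Nat.dvd_prime_pow Nat.prime_two).1 hg
  exact IsPGroup.of_card (n := j) (by rw [Nat.card_zpowers, hj])

theorem conj_elem {g : G} {n : ℕ} (hg : orderOf g ∣ 2 ^ n) (hD : g ∈ cD x v) :
    ∃ d ∈ cD x v, d * g * d⁻¹ ∈ cP z x v := by
  obtain ⟨d, hd, h⟩ := S.conj_le (S.isPGroup_zpowers hg) ((Subgroup.zpowers_le).2 hD)
  exact ⟨d, hd, h g (Subgroup.mem_zpowers g)⟩

theorem orderOf_dvd_four {k : G} (hk : k * k ∈ cV x v) : orderOf k ∣ 2 ^ 2 :=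
  orderOf_dvd_of_pow_eq_one (by
    rw [show (2 : ℕ) ^ 2 = 2 + 2 by norm_num, pow_add, pow_two, S.sq_cV hk])

/-- Every element of type `Tz` of `cD` is conjugate to `z` there. -/
theorem tz_conj {s : G} (hs : s ∈ cD x v) (ht : Tz z x s) :
    ∃ k ∈ cD x v, k * z * k⁻¹ = s := by
  obtain ⟨d, hd, hP⟩ := S.conj_elem (n := 1) (by rw [S.orderOf_tz ht]; rfl) hs
  obtain ⟨k, hk, e⟩ := S.conj_of_mem_cP hP ((tz_conj_iff (mem_cD.1 hd).1).2 ht)
  exact ⟨d⁻¹ * k, mul_mem (inv_mem hd) hk.1, by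
    rw [show d⁻¹ * k * z * (d⁻¹ * k)⁻¹ = d⁻¹ * (k * z * k⁻¹) * d by group, e]; group⟩

theorem isConj_mul_v {s : G} (hs : s ∈ cD x v) (ht : Tz z x s) : IsConj z (s * v) := by
  obtain ⟨k, hk, rfl⟩ := S.tz_conj hs ht
  have : k * z * k⁻¹ * v = k * (z * v) * k⁻¹ := by rw [conj_mul, conj_fix (mem_cD.1 hk).2]
  rw [this, isConj_conj_iff]
  exact S.zv

theorem tz_conj_G0 {s : G} (hs : s ∈ cD x v ⊓ G0) (ht : Tz z x s) :
    ∃ k ∈ cD x v ⊓ G0, k * z * k⁻¹ = s :=
  S.exists_conj hs ht (S.isConj_mul_v hs.1 ht)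

theorem card_cent {s : G} (hs : s ∈ cD x v) (ht : Tz z x s) :
    Nat.card ↥(Subgroup.centralizer ({s} : Set G) ⊓ cD x v) = 256 := by
  obtain ⟨k, hk, e⟩ := S.tz_conj hs ht
  exact S.card_cent_of_conj hk e

/-- Each coset of the four group consisting of involutions modulo it has one element of type
`Tz`. -/
theorem coset_cD {k : G} (hk : k ∈ cD x v) (hk1 : k ∉ cV x v) (hk2 : k * k ∈ cV x v) :
    ∃ w ∈ cV x v, Tz z x (k * w) ∧ ∀ w' ∈ cV x v, Tz z x (k * w') → w' = w := by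
  obtain ⟨d, hd, hP⟩ := S.conj_elem (S.orderOf_dvd_four hk2) hk
  have hfix : ∀ w ∈ cV x v, d * w * d⁻¹ = w := fun w hw => conj_fix (S.commute_cV hd hw)
  have hsq : d * k * d⁻¹ * (d * k * d⁻¹) = k * k := by rw [← conj_mul, hfix _ hk2]
  have hnV : d * k * d⁻¹ ∉ cV x v := fun h => hk1 (by
    have h' := conj_fix (S.commute_cV (inv_mem hd) h)
    have e : d⁻¹ * (d * k * d⁻¹) * d⁻¹⁻¹ = k := by group
    rw [e] at h'
    rw [h']; exact h)
  have htr : ∀ w ∈ cV x v, (Tz z x (d * k * d⁻¹ * w) ↔ Tz z x (k * w)) := by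
    intro w hw
    rw [← tz_conj_iff (s := k * w) (mem_cD.1 hd).1, conj_mul, hfix w hw]
  obtain ⟨w, hw, ht, hu⟩ := S.coset _ hP hnV (by rw [hsq]; exact hk2)
  exact ⟨w, hw, (htr w hw).1 ht, fun w' hw' h => hu w' hw' ((htr w' hw').2 h)⟩

end Setting

end Cfsg.Agent.Lib.HeEnd85
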